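import Mathlib
import Cfsg.Agent.Lib.Cores.Basic
import Cfsg.Agent.Lib.Involutions.BaerSuzuki

/-!
# Class-size graphs of subgroups complete implies solvable

An odd-order element inverted by a 2-element generates with it a subgroup with coprime class
sizes. By Baer–Suzuki such a pair exists unless the group modulo its largest normal 2-subgroup
has odd order.
-/

set_option autoImplicit false

namespace Cfsg.Agent.ClassSizeCoprime

open Subgroup

/-- a pair generating a subgroup with two coprime class sizes -/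
theorem coprime_pair {G : Type*} [Group G] [Finite G] {h t : G} {r m : ℕ} (hr : r.Prime)
    (hr2 : r ≠ 2) (hh : orderOf h = r) (ht : orderOf t = 2 ^ m) (hinv : t * h * t⁻¹ = h⁻¹) :
    ∃ (H : Subgroup G) (x y : H), 1 < (centralizer ({x} : Set H)).index ∧
      1 < (centralizer ({y} : Set H)).index ∧
      ((centralizer ({x} : Set H)).index).Coprime (centralizer ({y} : Set H)).index := by
  classical
  haveI : Fact r.Prime := ⟨hr⟩
  set H := zpowers h ⊔ zpowers t with hH
  let a : H := ⟨h, mem_sup_left (mem_zpowers h)⟩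
  let b : H := ⟨t, mem_sup_right (mem_zpowers t)⟩
  set A := zpowers a
  set B := zpowers b
  have hAB : A ⊔ B = ⊤ := by
    refine map_injective H.subtype_injective ?_
    rw [Subgroup.map_sup, MonoidHom.map_zpowers, MonoidHom.map_zpowers, ← MonoidHom.range_eq_map,
      range_subtype]
    rfl
  have hbA : b * a * b⁻¹ = a⁻¹ := Subtype.ext hinv
  haveI hAn : A.Normal := by
    rw [← normalizer_eq_top_iff, eq_top_iff, ← hAB]
    refine sup_le le_normalizer ((zpowers_le (g := b)).2 (mem_normalizer_fintype fun x hx => ?_))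
    obtain ⟨i, rfl⟩ := hx
    rw [← conj_zpow, hbA]
    exact zpow_mem (inv_mem (mem_zpowers a)) i
  have ha : Nat.card A = r := by rw [Nat.card_zpowers, orderOf_mk, hh]
  have hb : Nat.card B = 2 ^ m := by rw [Nat.card_zpowers, orderOf_mk, ht]
  have hco : (Nat.card A).Coprime (Nat.card B) := by
    rw [ha, hb]; exact Nat.Coprime.pow_right m ((Nat.coprime_primes hr Nat.prime_two).2 hr2)
  have hdis : A ⊓ B = ⊥ := inf_eq_bot_of_coprime hco
  have hAi : A.index = 2 ^ m := by
    rw [← relIndex_top_right, ← hAB, relIndex_sup_left, ← hb, ← relIndex_bot_left,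
      ← inf_relIndex_right A B, hdis]
  have hBi : B.index = r := by
    have h1 := A.card_mul_index
    have h2 := B.card_mul_index
    rw [ha, hAi, ← h2, hb, mul_comm r] at h1
    exact (Nat.eq_of_mul_eq_mul_left (by positivity) h1).symm
  have hnc : ¬ Commute b a := fun e => by
    have h2 : a = a⁻¹ := by rw [← hbA, e.eq, mul_inv_cancel_right]
    have h3 : orderOf a ∣ 2 := orderOf_dvd_of_pow_eq_one (by
      rw [pow_two]; nth_rw 1 [h2]; exact inv_mul_cancel a)
    rw [orderOf_mk, hh] at h3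
    exact hr2 ((Nat.prime_dvd_prime_iff_eq hr Nat.prime_two).1 h3)
  have hlt : ∀ u : H, ¬ (∀ v : H, Commute v u) → 1 < (centralizer ({u} : Set H)).index := by
    intro u hu
    refine one_lt_index_of_ne_top fun e => hu fun v => ?_
    exact mem_centralizer_singleton_iff.1 (e ▸ mem_top v)
  refine ⟨H, a, b, hlt a (fun e => hnc (e b)), hlt b (fun e => hnc (e a).symm), ?_⟩
  have hda : (centralizer ({a} : Set H)).index ∣ 2 ^ m := by
    rw [← hAi]
    exact index_dvd_of_le ((zpowers_le (g := a)).2 (mem_centralizer_singleton_iff.2 rfl))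
  have hdb : (centralizer ({b} : Set H)).index ∣ r := by
    rw [← hBi]
    exact index_dvd_of_le ((zpowers_le (g := b)).2 (mem_centralizer_singleton_iff.2 rfl))
  rw [ha, hb] at hco
  exact (hco.symm.coprime_dvd_left hda).coprime_dvd_right hdb

/-- lift an inverted element of prime order modulo a normal 2-subgroup -/
theorem lift_pair {G : Type*} [Group G] [Finite G] (P : Subgroup G) [P.Normal]
    (hP : IsPGroup 2 P) {u v : G ⧸ P} {r : ℕ} (hr : r.Prime) (hr2 : r ≠ 2) (hu : orderOf u = r)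
    (hv : orderOf v = 2) (hvu : v * u * v⁻¹ = u⁻¹) :
    ∃ (h t : G) (m : ℕ), orderOf h = r ∧ orderOf t = 2 ^ m ∧ t * h * t⁻¹ = h⁻¹ := by
  classical
  haveI : Fact r.Prime := ⟨hr⟩
  set π := QuotientGroup.mk' P
  have hπ : Function.Surjective π := QuotientGroup.mk'_surjective P
  set M := (zpowers u).comap π
  haveI hMn : M.Normal → True := fun _ => trivial
  have hPM : P ≤ M := fun x hx => by
    show π x ∈ zpowers u
    rw [show π x = 1 from (QuotientGroup.eq_one_iff x).2 hx]
    exact one_mem _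
  obtain ⟨k, hk⟩ := IsPGroup.iff_card.1 hP
  have hMcard : Nat.card M = r * 2 ^ k := by
    have h1 := (P.subgroupOf M).card_mul_index
    rw [Nat.card_congr (subgroupOfEquivOfLe hPM).toEquiv, hk] at h1
    rw [← h1, mul_comm]
    congr 1
    have h2 : P = (⊥ : Subgroup (G ⧸ P)).comap π := by
      rw [MonoidHom.comap_bot, QuotientGroup.ker_mk']
    show P.relIndex M = r
    nth_rw 1 [h2]
    rw [relIndex_comap, map_comap_eq_self_of_surjective hπ, relIndex_bot_left, Nat.card_zpowers, hu]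
  obtain ⟨hM, hMo⟩ := exists_prime_orderOf_dvd_card' (G := M) r (hMcard ▸ dvd_mul_right _ _)
  set h : G := (hM : G)
  have hho : orderOf h = r := by rw [orderOf_coe]; exact hMo
  obtain ⟨g, hg⟩ := hπ v
  -- the conjugate of `⟨h⟩` by `g` is again a Sylow `r`-subgroup of `M`
  have hr2k : ¬ r ∣ 2 ^ k := fun e =>
    hr2 ((Nat.prime_dvd_prime_iff_eq hr Nat.prime_two).1 (hr.dvd_of_dvd_pow e))
  have hfac : (Nat.card M).factorization r = 1 := by
    rw [hMcard, Nat.factorization_mul hr.ne_zero (by positivity), Finsupp.add_apply,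
      hr.factorization_self, Nat.factorization_eq_zero_of_not_dvd hr2k]
  have hgM : g * h * g⁻¹ ∈ M := by
    show π (g * h * g⁻¹) ∈ zpowers u
    obtain ⟨i, hi : u ^ i = π h⟩ := hM.2
    rw [map_mul, map_mul, map_inv, hg, ← hi, ← conj_zpow, hvu]
    exact zpow_mem (inv_mem (mem_zpowers u)) _
  let Q₁ : Sylow r M := Sylow.ofCard (zpowers hM)
    (by rw [hfac, pow_one, Nat.card_zpowers, hMo])
  let Q₂ : Sylow r M := Sylow.ofCard (zpowers (⟨g * h * g⁻¹, hgM⟩ : M))
    (by rw [hfac, pow_one, Nat.card_zpowers, orderOf_mk, Involutions.Basic.orderOf_conj, hho])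
  obtain ⟨c, hc⟩ := MulAction.exists_smul_eq M Q₂ Q₁
  have hcg : ((c : G) * g) * h * ((c : G) * g)⁻¹ ∈ zpowers h := by
    have h1 : c * ⟨g * h * g⁻¹, hgM⟩ * c⁻¹ ∈ (Q₁ : Subgroup M) := by
      rw [← hc, Sylow.coe_subgroup_smul]
      exact ⟨⟨g * h * g⁻¹, hgM⟩, mem_zpowers _, rfl⟩
    obtain ⟨i, hi⟩ := h1
    refine ⟨i, ?_⟩
    have h2 : h ^ i = (c : G) * (g * h * g⁻¹) * (c : G)⁻¹ := by
      have := congrArg Subtype.val hi
      simpa using this
    show h ^ i = _
    rw [h2]; group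
  -- take the 2-part
  set n := (c : G) * g
  obtain ⟨e, q, hq, hn⟩ := Nat.exists_eq_two_pow_mul_odd (orderOf_pos n).ne'
  have hnN : n ∈ normalizer ((zpowers h : Subgroup G) : Set G) := by
    refine mem_normalizer_fintype fun x hx => ?_
    obtain ⟨i, rfl⟩ := hx
    rw [← conj_zpow]
    exact zpow_mem hcg i
  have ht : orderOf (n ^ q) = 2 ^ e := by
    rw [orderOf_pow' _ hq.pos.ne', hn, Nat.gcd_mul_left_left, Nat.mul_div_cancel _ hq.pos]
  refine ⟨h, n ^ q, e, hho, ht, ?_⟩
  have hmem : (n ^ q) * h * (n ^ q)⁻¹ ∈ zpowers h :=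
    (mem_normalizer_iff.1 (pow_mem hnN q) h).1 (mem_zpowers h)
  obtain ⟨i, hi : h ^ i = _⟩ := hmem
  -- compare with the quotient
  obtain ⟨j, hj : u ^ j = π h⟩ := hM.2
  have hπh1 : π h ≠ 1 := fun e1 => by
    have hhP : h ∈ P := (QuotientGroup.eq_one_iff h).1 e1
    have h5 := orderOf_dvd_natCard (⟨h, hhP⟩ : P)
    rw [orderOf_mk, hho, hk] at h5
    exact hr2k h5
  have hπc : ∃ l : ℤ, π (c : G) = u ^ l := by
    obtain ⟨l, hl⟩ := c.2
    exact ⟨l, hl.symm⟩
  obtain ⟨l, hl⟩ := hπc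
  have hπn : π n * π h * (π n)⁻¹ = (π h)⁻¹ := by
    rw [map_mul, hl, hg, ← hj]
    calc u ^ l * v * u ^ j * (u ^ l * v)⁻¹ = u ^ l * (v * u ^ j * v⁻¹) * (u ^ l)⁻¹ := by group
      _ = u ^ l * (u ^ j)⁻¹ * (u ^ l)⁻¹ := by rw [← conj_zpow, hvu, inv_zpow]
      _ = (u ^ j)⁻¹ := by group
  have hπt : π (n ^ q) * π h * (π (n ^ q))⁻¹ = (π h)⁻¹ := by
    obtain ⟨d, rfl⟩ := hq
    have h2 : π n ^ 2 * π h * (π n ^ 2)⁻¹ = π h := by
      calc π n ^ 2 * π h * (π n ^ 2)⁻¹ = π n * (π n * π h * (π n)⁻¹) * (π n)⁻¹ := by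
            rw [pow_two]; group
        _ = π n * (π h)⁻¹ * (π n)⁻¹ := by rw [hπn]
        _ = (π n * π h * (π n)⁻¹)⁻¹ := by group
        _ = π h := by rw [hπn, inv_inv]
    have h3 : Commute (π n ^ (2 * d)) (π h) := by
      rw [pow_mul]
      exact Commute.pow_left (mul_inv_eq_iff_eq_mul.1 h2) d
    rw [map_pow, pow_succ']
    calc π n * π n ^ (2 * d) * π h * (π n * π n ^ (2 * d))⁻¹
        = π n * (π n ^ (2 * d) * π h) * (π n ^ (2 * d))⁻¹ * (π n)⁻¹ := by group
      _ = π n * π h * (π n)⁻¹ := by rw [h3.eq]; group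
      _ = (π h)⁻¹ := hπn
  have hdvd : (orderOf (π h) : ℤ) ∣ i + 1 := by
    rw [orderOf_dvd_iff_zpow_eq_one, zpow_add, zpow_one, ← map_zpow, hi, map_mul, map_mul, map_inv,
      hπt, inv_mul_cancel]
  have hordπ : orderOf (π h) = r :=
    ((Nat.dvd_prime hr).1 (hho ▸ orderOf_map_dvd π h)).resolve_left
      fun e1 => hπh1 (orderOf_eq_one_iff.1 e1)
  rw [hordπ, ← hho, orderOf_dvd_iff_zpow_eq_one, zpow_add, zpow_one] at hdvd
  rw [← hi]
  exact eq_inv_of_mul_eq_one_left hdvd

universe u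

/-- all subgroups have pairwise non-coprime class sizes implies solvable, granting the odd order
theorem -/
theorem solvable_of_odd_order
    (hFT : ∀ (H : Type u) [Group H] [Finite H], Odd (Nat.card H) → Group.IsSolvable H)
    {G : Type u} [Group G] [Finite G]
    (h : ∀ (H : Subgroup G) (x y : H), 1 < (centralizer ({x} : Set H)).index →
      1 < (centralizer ({y} : Set H)).index →
      ¬ ((centralizer ({x} : Set H)).index).Coprime (centralizer ({y} : Set H)).index) :
    Group.IsSolvable G := by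
  haveI : Fact (Nat.Prime 2) := ⟨Nat.prime_two⟩
  set P := Cfsg.pCore 2 G
  have hP2 : IsPGroup 2 P := Cores.pCore_isPGroup 2
  haveI : Group.IsSolvable P := by
    haveI := hP2.isNilpotent
    infer_instance
  refine (Group.isSolvable_iff_subgroup_quotient P).2 ⟨inferInstance, hFT _ ?_⟩
  by_contra hev
  obtain ⟨v, hv⟩ := exists_prime_orderOf_dvd_card' (G := G ⧸ P) 2
    (Nat.not_odd_iff_even.1 hev).two_dvd
  obtain ⟨w, hw1, hwodd, hwinv⟩ := Involutions.BaerSuzuki.exists_inverted_odd v hv fun N hN hN2 hvN => by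
    haveI := hN
    have hle : N.comap (QuotientGroup.mk' P) ≤ P := by
      refine Cores.le_pCore (hN2.comap_of_ker_isPGroup _ ?_)
      rw [QuotientGroup.ker_mk']
      exact hP2
    obtain ⟨g, rfl⟩ := QuotientGroup.mk'_surjective P v
    rw [show QuotientGroup.mk' P g = 1 from (QuotientGroup.eq_one_iff g).2 (hle hvN), orderOf_one] at hv
    omega
  obtain ⟨r, hr, hrw⟩ := Nat.exists_prime_and_dvd (fun e => hw1 (orderOf_eq_one_iff.1 e))
  have hr2 : r ≠ 2 := by
    rintro rfl
    exact (Nat.not_even_iff_odd.2 hwodd) (even_iff_two_dvd.2 hrw)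
  obtain ⟨a, t, m, ha, ht, hat⟩ := lift_pair P hP2 (u := w ^ (orderOf w / r)) (v := v) hr hr2
    (orderOf_pow_orderOf_div (orderOf_pos w).ne' hrw) hv
    (by rw [← conj_pow, hwinv, inv_pow])
  obtain ⟨H, x, y, hx, hy, hxy⟩ := coprime_pair hr hr2 ha ht hat
  exact h H x y hx hy hxy

end Cfsg.Agent.ClassSizeCoprime
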